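/-
The checks of the certificate for `U₃(4)` and its representation over `ZMod 5`.
Main results (namespace `Cfsg.Agent.UThreeFour`): `allUpTo_spec`; the checks `dataCheck`, `closCheck`, `transCheck`,
`fixCheck`, `crossCheck`, `sortCheck`, `witnessCheck`.
-/
import Cfsg.Agent.Lib.UThreeFour.Data

set_option autoImplicit false
set_option maxRecDepth 100000

namespace Cfsg.Agent.UThreeFour

open Cfsg.Agent.Janko (forceList forceList_eq eqL eqL_spec)

/-- `p k` for all `k < n`. -/
noncomputable def allUpTo (p : ℕ → Bool) (n : ℕ) : Bool :=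
  Nat.rec (motive := fun _ => Bool) true (fun k ih => bif p k then ih else false) n

theorem allUpTo_spec {p : ℕ → Bool} : ∀ {n : ℕ}, allUpTo p n = true → ∀ k < n, p k = true
  | 0, _, k, hk => absurd hk (Nat.not_lt_zero k)
  | n + 1, h, k, hk => by
    change (bif p n then allUpTo p n else false) = true at h
    cases hp : p n
    · simp [hp] at h
    · rw [hp] at h
      rcases Nat.lt_succ_iff_lt_or_eq.mp hk with h' | rfl
      · exact allUpTo_spec h k h'
      · exact hp

/-- A check on `[0, a + b)` from checks on `[0, a)` and on `[a, a + b)`. -/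
theorem allUpTo_add {p : ℕ → Bool} {a : ℕ} (h : allUpTo p a = true) :
    ∀ {b : ℕ}, allUpTo (fun k => p (a + k)) b = true → allUpTo p (a + b) = true
  | 0, _ => h
  | b + 1, hb => by
    change (bif p (a + b) then allUpTo (fun k => p (a + k)) b else false) = true at hb
    show (bif p (a + b) then allUpTo p (a + b) else false) = true
    cases hp : p (a + b)
    · simp [hp] at hb
    · rw [hp] at hb
      exact allUpTo_add h hb

/-- The identity pair. -/
noncomputable def oneP : List ℕ × List ℕ := ([1, 0, 0, 0, 1, 0, 0, 0, 1], oneN)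

/-- Product of pairs. -/
noncomputable def mulP (x y : List ℕ × List ℕ) : List ℕ × List ℕ := (mul3 x.1 y.1, mulN x.2 y.2)

/-- Equality test of pairs. -/
noncomputable def eqP (x y : List ℕ × List ℕ) : Bool := eqL x.1 y.1 && eqL x.2 y.2

/-- The `k`-th element of the point stabiliser. -/
noncomputable def hm (k : ℕ) : List ℕ × List ℕ :=
  bif Nat.blt k 120 then sub0.getD k ([], []) else
  bif Nat.blt k 240 then sub1.getD (Nat.sub k 120) ([], []) else
  bif Nat.blt k 360 then sub2.getD (Nat.sub k 240) ([], []) else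
  bif Nat.blt k 480 then sub3.getD (Nat.sub k 360) ([], []) else
  bif Nat.blt k 600 then sub4.getD (Nat.sub k 480) ([], []) else
  bif Nat.blt k 720 then sub5.getD (Nat.sub k 600) ([], []) else
  bif Nat.blt k 840 then sub6.getD (Nat.sub k 720) ([], []) else sub7.getD (Nat.sub k 840) ([], [])

/-- The two double coset representatives. -/
noncomputable def rm (d : ℕ) : List ℕ × List ℕ := bif Nat.beq d 0 then oneP else genW

/-- The transversal. -/
noncomputable def tm (i : ℕ) : List ℕ × List ℕ :=
  mulP (hm (transU.getD i 0)) (rm (bif Nat.beq i 0 then 0 else 1))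

/-- Transpose of a matrix of codes. -/
noncomputable def trC (A : List ℕ) : List ℕ := (List.range 9).map fun t => A.getD (3 * (t % 3) + t / 3) 0

/-- Fourth powers of the entries. -/
noncomputable def conjC (A : List ℕ) : List ℕ :=
  (List.range 9).map fun t => mulC (mulC (A.getD t 0) (A.getD t 0)) (mulC (A.getD t 0) (A.getD t 0))

/-- The determinant of a matrix of codes. -/
noncomputable def detC (A : List ℕ) : ℕ :=
  Nat.xor (Nat.xor (Nat.xor (Nat.xor (Nat.xor
    (mulC (mulC (A.getD 0 0) (A.getD 4 0)) (A.getD 8 0))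
    (mulC (mulC (A.getD 1 0) (A.getD 5 0)) (A.getD 6 0)))
    (mulC (mulC (A.getD 2 0) (A.getD 3 0)) (A.getD 7 0)))
    (mulC (mulC (A.getD 2 0) (A.getD 4 0)) (A.getD 6 0)))
    (mulC (mulC (A.getD 1 0) (A.getD 3 0)) (A.getD 8 0)))
    (mulC (mulC (A.getD 0 0) (A.getD 5 0)) (A.getD 7 0))

/-- A pair of valid components. -/
noncomputable def okP (x : List ℕ × List ℕ) : Bool := (x.1.all fun c => Nat.blt c 16) && okMat x.2

/-- A generator: unitary of determinant one, with the inverse of its second component. -/
noncomputable def genCheck (g : List ℕ × List ℕ) (gi : List ℕ) : Bool :=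
  okP g && okMat gi && eqL (mul3 (trC g.1) (conjC g.1)) oneP.1 && Nat.beq (detC g.1) 1 &&
    eqL (mulN g.2 gi) oneN && eqL (mulN gi g.2) oneN

noncomputable def dataCheck : Bool :=
  genCheck genA invRepA && genCheck genB invRepB && genCheck genW invRepW && eqP (hm 0) oneP &&
    allUpTo (fun k => okP (hm k)) 960 && allUpTo (fun i => Nat.blt (transU.getD i 0) 960) 65 && eqP (tm 0) oneP

noncomputable def closCheck (k : ℕ) : Bool :=
  Nat.blt (actA.getD k 0) 960 && Nat.blt (actB.getD k 0) 960 &&
    eqP (mulP genA (hm k)) (hm (actA.getD k 0)) && eqP (mulP genB (hm k)) (hm (actB.getD k 0)) &&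
    (Nat.beq k 0 ||
      (Nat.blt (Nat.div (parents.getD k 0) 2) k &&
        eqP (mulP (bif Nat.beq (Nat.mod (parents.getD k 0) 2) 0 then genA else genB)
          (hm (Nat.div (parents.getD k 0) 2))) (hm k)))

noncomputable def transCheck (g : List ℕ × List ℕ) (cj ck : List ℕ) (i : ℕ) : Bool :=
  Nat.blt (cj.getD i 0) 65 && Nat.blt (ck.getD i 0) 960 &&
    forceList (tm i).1 fun a => forceList (tm i).2 fun b =>
    forceList (tm (cj.getD i 0)).1 fun a' => forceList (tm (cj.getD i 0)).2 fun b' =>
      eqP (mulP g (a, b)) (mulP (a', b') (hm (ck.getD i 0)))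

/-- `a ^ m = 1` for `m ∈ {10, 13, 15}`. -/
noncomputable def powOK3 (a : List ℕ) (m : ℕ) : Bool :=
  forceList a fun a => forceList (mul3 a a) fun a2 => forceList (mul3 a2 a2) fun a4 =>
    forceList (mul3 a4 a) fun a5 => forceList (mul3 a5 a5) fun a10 =>
    bif Nat.beq m 10 then eqL a10 oneP.1 else
    bif Nat.beq m 13 then eqL (mul3 a10 (mul3 a2 a)) oneP.1 else
    bif Nat.beq m 15 then eqL (mul3 a10 a5) oneP.1 else false

/-- The image of the base point under a matrix of codes. -/
noncomputable def imC (A : List ℕ) (r : ℕ) : ℕ := Nat.xor (A.getD (3 * r) 0) (A.getD (3 * r + 1) 0)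

/-- Elements of the subgroup fix the base point. -/
noncomputable def fixCheck (k : ℕ) : Bool :=
  Nat.beq (imC (hm k).1 0) (imC (hm k).1 1) && Nat.beq (imC (hm k).1 2) 0

/-- The minor of two image vectors. -/
noncomputable def minorC (A B : List ℕ) (r s : ℕ) : ℕ :=
  Nat.xor (mulC (imC A r) (imC B s)) (mulC (imC A s) (imC B r))

/-- The transversal moves the base point to pairwise independent vectors. -/
noncomputable def crossCheck (i : ℕ) : Bool :=
  forceList (tm i).1 fun A => allUpTo (fun j => forceList (tm j).1 fun B =>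
    !(Nat.beq (minorC A B 0 1) 0 && Nat.beq (minorC A B 0 2) 0 && Nat.beq (minorC A B 1 2) 0)) i

/-- The code of a matrix of codes. -/
noncomputable def codeOf (A : List ℕ) : ℕ :=
  List.rec (motive := fun _ => ℕ) 0 (fun c _ ih => Nat.add c (Nat.mul 16 ih)) A

/-- Consecutive codes increase. -/
noncomputable def incCheck (r : ℕ) : Bool :=
  Nat.blt (codeOf (hm (sortPerm.getD r 0)).1) (codeOf (hm (sortPerm.getD (Nat.succ r) 0)).1)

/-- The ranks invert the sorting permutation. -/
noncomputable def rankCheck (k : ℕ) : Bool :=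
  Nat.blt (sortRank.getD k 0) 960 && Nat.beq (sortPerm.getD (sortRank.getD k 0) 0) k && Nat.beq (hm k).1.length 9

/-- The subgroup elements are distinct. -/
noncomputable def sortCheck : Bool := allUpTo incCheck 959 && allUpTo rankCheck 960

/-- `1 + b + ⋯ + b ^ n`. -/
noncomputable def powSum (b : List ℕ) (n : ℕ) : List ℕ :=
  Nat.rec (motive := fun _ => List ℕ) oneN (fun _ S => forceList S fun S => addOne (mulN b S)) n

/-- The zero matrix. -/
noncomputable def zeroN : List ℕ := (List.range 12).map fun _ => 0

/-- `b ^ n`. -/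
noncomputable def powN (b : List ℕ) (n : ℕ) : List ℕ :=
  Nat.rec (motive := fun _ => List ℕ) oneN (fun _ S => forceList S fun S => mulN b S) n

/-- Second components of witnesses of order 13, 10 and 15. -/
noncomputable def witnessB (m : ℕ) : List ℕ :=
  bif Nat.beq m 13 then mulN genW.2 (hm 2).2 else bif Nat.beq m 10 then (hm 8).2 else (hm 1).2

noncomputable def witnessCheck : Bool :=
  eqL (powSum (witnessB 13) 12) zeroN && powOK3 (mul3 genW.1 (hm 2).1) 13 && powOK3 (hm 8).1 10 && powOK3 (hm 1).1 15 &&
    !eqL (witnessB 13) oneN &&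
    !eqL (powN (witnessB 10) 5) oneN && !eqL (powN (witnessB 10) 2) oneN && !eqL (powN (witnessB 10) 1) oneN &&
    !eqL (powN (witnessB 15) 5) oneN && !eqL (powN (witnessB 15) 3) oneN && !eqL (powN (witnessB 15) 1) oneN

end Cfsg.Agent.UThreeFour
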