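/-
Closure of the point stabiliser of `U₃(4)` under its generators, evaluated by the kernel in chunks.
Main results (namespace `Cfsg.Agent.UThreeFour`): `clos_ok`.
-/
import Cfsg.Agent.Lib.UThreeFour.Cert

set_option autoImplicit false
set_option maxRecDepth 100000
set_option Elab.async false

namespace Cfsg.Agent.UThreeFour

theorem clos_ok0 : allUpTo closCheck 80 = true := by decide +kernel

theorem clos_ok1 : allUpTo (fun k => closCheck (80 + k)) 80 = true := by decide +kernel

theorem clos_ok_to1 : allUpTo closCheck 160 = true :=
  allUpTo_add (p := closCheck) (a := 80) clos_ok0 (b := 80) clos_ok1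

theorem clos_ok2 : allUpTo (fun k => closCheck (160 + k)) 80 = true := by decide +kernel

theorem clos_ok_to2 : allUpTo closCheck 240 = true :=
  allUpTo_add (p := closCheck) (a := 160) clos_ok_to1 (b := 80) clos_ok2

theorem clos_ok3 : allUpTo (fun k => closCheck (240 + k)) 80 = true := by decide +kernel

theorem clos_ok_to3 : allUpTo closCheck 320 = true :=
  allUpTo_add (p := closCheck) (a := 240) clos_ok_to2 (b := 80) clos_ok3

theorem clos_ok4 : allUpTo (fun k => closCheck (320 + k)) 80 = true := by decide +kernel

theorem clos_ok_to4 : allUpTo closCheck 400 = true :=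
  allUpTo_add (p := closCheck) (a := 320) clos_ok_to3 (b := 80) clos_ok4

theorem clos_ok5 : allUpTo (fun k => closCheck (400 + k)) 80 = true := by decide +kernel

theorem clos_ok_to5 : allUpTo closCheck 480 = true :=
  allUpTo_add (p := closCheck) (a := 400) clos_ok_to4 (b := 80) clos_ok5

theorem clos_ok6 : allUpTo (fun k => closCheck (480 + k)) 80 = true := by decide +kernel

theorem clos_ok_to6 : allUpTo closCheck 560 = true :=
  allUpTo_add (p := closCheck) (a := 480) clos_ok_to5 (b := 80) clos_ok6

theorem clos_ok7 : allUpTo (fun k => closCheck (560 + k)) 80 = true := by decide +kernel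

theorem clos_ok_to7 : allUpTo closCheck 640 = true :=
  allUpTo_add (p := closCheck) (a := 560) clos_ok_to6 (b := 80) clos_ok7

theorem clos_ok8 : allUpTo (fun k => closCheck (640 + k)) 80 = true := by decide +kernel

theorem clos_ok_to8 : allUpTo closCheck 720 = true :=
  allUpTo_add (p := closCheck) (a := 640) clos_ok_to7 (b := 80) clos_ok8

theorem clos_ok9 : allUpTo (fun k => closCheck (720 + k)) 80 = true := by decide +kernel

theorem clos_ok_to9 : allUpTo closCheck 800 = true :=
  allUpTo_add (p := closCheck) (a := 720) clos_ok_to8 (b := 80) clos_ok9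

theorem clos_ok10 : allUpTo (fun k => closCheck (800 + k)) 80 = true := by decide +kernel

theorem clos_ok_to10 : allUpTo closCheck 880 = true :=
  allUpTo_add (p := closCheck) (a := 800) clos_ok_to9 (b := 80) clos_ok10

theorem clos_ok11 : allUpTo (fun k => closCheck (880 + k)) 80 = true := by decide +kernel

theorem clos_ok_to11 : allUpTo closCheck 960 = true :=
  allUpTo_add (p := closCheck) (a := 880) clos_ok_to10 (b := 80) clos_ok11

theorem clos_ok : allUpTo closCheck 960 = true := clos_ok_to11

end Cfsg.Agent.UThreeFour
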