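/-
Checks of the certificate for `U₃(4)`, evaluated by the kernel.
Main results (namespace `Cfsg.Agent.UThreeFour`): `data_ok`, `trans_okA`, `trans_okB`, `trans_okW`, `witness_ok`, `fix_ok`, `cross_ok`, `sort_ok`.
-/
import Cfsg.Agent.Lib.UThreeFour.Cert

set_option autoImplicit false
set_option maxRecDepth 100000
set_option Elab.async false

namespace Cfsg.Agent.UThreeFour

theorem data_ok : dataCheck = true := by decide +kernel

theorem trans_okA : allUpTo (transCheck genA cosAJ cosAK) 65 = true := by decide +kernel

theorem trans_okB : allUpTo (transCheck genB cosBJ cosBK) 65 = true := by decide +kernel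

theorem trans_okW : allUpTo (transCheck genW cosWJ cosWK) 65 = true := by decide +kernel

theorem witness_ok : witnessCheck = true := by decide +kernel

theorem fix_ok : allUpTo fixCheck 960 = true := by decide +kernel

theorem cross_ok : allUpTo crossCheck 65 = true := by decide +kernel

theorem inc_ok0 : allUpTo incCheck 120 = true := by decide +kernel

theorem inc_ok1 : allUpTo (fun k => incCheck (120 + k)) 120 = true := by decide +kernel

theorem inc_ok_to1 : allUpTo incCheck 240 = true :=
  allUpTo_add (p := incCheck) (a := 120) inc_ok0 (b := 120) inc_ok1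

theorem inc_ok2 : allUpTo (fun k => incCheck (240 + k)) 120 = true := by decide +kernel

theorem inc_ok_to2 : allUpTo incCheck 360 = true :=
  allUpTo_add (p := incCheck) (a := 240) inc_ok_to1 (b := 120) inc_ok2

theorem inc_ok3 : allUpTo (fun k => incCheck (360 + k)) 120 = true := by decide +kernel

theorem inc_ok_to3 : allUpTo incCheck 480 = true :=
  allUpTo_add (p := incCheck) (a := 360) inc_ok_to2 (b := 120) inc_ok3

theorem inc_ok4 : allUpTo (fun k => incCheck (480 + k)) 120 = true := by decide +kernel

theorem inc_ok_to4 : allUpTo incCheck 600 = true :=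
  allUpTo_add (p := incCheck) (a := 480) inc_ok_to3 (b := 120) inc_ok4

theorem inc_ok5 : allUpTo (fun k => incCheck (600 + k)) 120 = true := by decide +kernel

theorem inc_ok_to5 : allUpTo incCheck 720 = true :=
  allUpTo_add (p := incCheck) (a := 600) inc_ok_to4 (b := 120) inc_ok5

theorem inc_ok6 : allUpTo (fun k => incCheck (720 + k)) 120 = true := by decide +kernel

theorem inc_ok_to6 : allUpTo incCheck 840 = true :=
  allUpTo_add (p := incCheck) (a := 720) inc_ok_to5 (b := 120) inc_ok6

theorem inc_ok7 : allUpTo (fun k => incCheck (840 + k)) 119 = true := by decide +kernel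

theorem inc_ok_to7 : allUpTo incCheck 959 = true :=
  allUpTo_add (p := incCheck) (a := 840) inc_ok_to6 (b := 119) inc_ok7

theorem rank_ok0 : allUpTo rankCheck 120 = true := by decide +kernel

theorem rank_ok1 : allUpTo (fun k => rankCheck (120 + k)) 120 = true := by decide +kernel

theorem rank_ok_to1 : allUpTo rankCheck 240 = true :=
  allUpTo_add (p := rankCheck) (a := 120) rank_ok0 (b := 120) rank_ok1

theorem rank_ok2 : allUpTo (fun k => rankCheck (240 + k)) 120 = true := by decide +kernel

theorem rank_ok_to2 : allUpTo rankCheck 360 = true :=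
  allUpTo_add (p := rankCheck) (a := 240) rank_ok_to1 (b := 120) rank_ok2

theorem rank_ok3 : allUpTo (fun k => rankCheck (360 + k)) 120 = true := by decide +kernel

theorem rank_ok_to3 : allUpTo rankCheck 480 = true :=
  allUpTo_add (p := rankCheck) (a := 360) rank_ok_to2 (b := 120) rank_ok3

theorem rank_ok4 : allUpTo (fun k => rankCheck (480 + k)) 120 = true := by decide +kernel

theorem rank_ok_to4 : allUpTo rankCheck 600 = true :=
  allUpTo_add (p := rankCheck) (a := 480) rank_ok_to3 (b := 120) rank_ok4

theorem rank_ok5 : allUpTo (fun k => rankCheck (600 + k)) 120 = true := by decide +kernel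

theorem rank_ok_to5 : allUpTo rankCheck 720 = true :=
  allUpTo_add (p := rankCheck) (a := 600) rank_ok_to4 (b := 120) rank_ok5

theorem rank_ok6 : allUpTo (fun k => rankCheck (720 + k)) 120 = true := by decide +kernel

theorem rank_ok_to6 : allUpTo rankCheck 840 = true :=
  allUpTo_add (p := rankCheck) (a := 720) rank_ok_to5 (b := 120) rank_ok6

theorem rank_ok7 : allUpTo (fun k => rankCheck (840 + k)) 120 = true := by decide +kernel

theorem rank_ok_to7 : allUpTo rankCheck 960 = true :=
  allUpTo_add (p := rankCheck) (a := 840) rank_ok_to6 (b := 120) rank_ok7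

theorem sort_ok : sortCheck = true := by
  rw [sortCheck, inc_ok_to7, rank_ok_to7]
  rfl

end Cfsg.Agent.UThreeFour
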