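/-
The homomorphism from `SU₃(4)` to `GL₁₂(5)` given by the certificate.
Main results (namespace `Cfsg.Agent.UThreeFour`): `card_su`, `center_eq_bot`, `exists_rep`.
-/
import Cfsg.Agent.Lib.UThreeFour.CertClos
import Cfsg.Agent.Lib.UThreeFour.CertMain
import Cfsg.Agent.Lib.Unitary.Center

set_option autoImplicit false
set_option maxRecDepth 100000

namespace Cfsg.Agent.UThreeFour

open Cfsg.Agent.CosetEnum
open Cfsg.Agent.Janko (eqL eqL_spec forceList_eq)

theorem eqL_refl : ∀ A : List ℕ, eqL A A = true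
  | [] => rfl
  | a :: s => by
    show (bif Nat.beq a a then eqL s s else false) = true
    rw [show Nat.beq a a = true from Nat.beq_refl a, cond_true, eqL_refl s]

theorem ne_of_eqL {A B : List ℕ} (h : (!eqL A B) = true) : A ≠ B := fun e => by
  subst e
  rw [eqL_refl] at h
  exact Bool.false_ne_true h

theorem eqP_spec {x y : List ℕ × List ℕ} (h : eqP x y = true) : x = y := by
  simp only [eqP, Bool.and_eq_true] at h
  exact Prod.ext (eqL_spec h.1) (eqL_spec h.2)

theorem toMat_inj {A B : List ℕ} (hA : Valid A) (hB : Valid B) (h : toMat A = toMat B) : A = B := by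
  obtain ⟨f, hf, hf'⟩ := valid_getD hA
  obtain ⟨g, hg, hg'⟩ := valid_getD hB
  refine List.ext_getElem (hA.1.trans hB.1.symm) fun i hi hi' => ?_
  have hi12 : i < 12 := hA.1 ▸ hi
  rw [← List.getD_eq_getElem _ 0 hi, ← List.getD_eq_getElem _ 0 hi', hf' i hi12, hg' i hi12]
  refine pack_congr fun j hj => ?_
  have e := congrFun (congrFun h ⟨i, hi12⟩) ⟨j, hj⟩
  simp only [toMat, hf' i hi12, hg' i hi12,
    lane_pack (B := 20) (by norm_num) (fun m _ => lt_trans (hf i m) (by norm_num : (5 : ℕ) < 2 ^ 20)) hj,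
    lane_pack (B := 20) (by norm_num) (fun m _ => lt_trans (hg i m) (by norm_num : (5 : ℕ) < 2 ^ 20)) hj,
    ZMod.natCast_eq_natCast_iff'] at e
  have := hf i j
  have := hg i j
  omega

/-- A pair with valid components. -/
def ValidP (x : List ℕ × List ℕ) : Prop := Valid3 x.1 ∧ Valid x.2

theorem validP_of_ok {x : List ℕ × List ℕ} (h : okP x = true) : ValidP x := by
  simp only [okP, Bool.and_eq_true] at h
  exact ⟨valid3_of_ok h.1, valid_of_ok h.2⟩

theorem validP_oneP : ValidP oneP := validP_of_ok (by decide +kernel)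

theorem validP_mulP {x y : List ℕ × List ℕ} (hx : ValidP x) (hy : ValidP y) : ValidP (mulP x y) :=
  ⟨valid3_mul3 _ _, valid_mulN hx.2 hy.2⟩

theorem getD_map_range (f : ℕ → ℕ) {t : ℕ} (ht : t < 9) : ((List.range 9).map f).getD t 0 = f t := by
  rw [List.getD_eq_getElem _ _ (by simpa using ht), List.getElem_map, List.getElem_range]

theorem valid3_map_range {f : ℕ → ℕ} (hf : ∀ t, f t < 16) : Valid3 ((List.range 9).map f) := fun t => by
  by_cases ht : t < 9
  · rw [getD_map_range f ht]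
    exact hf t
  · rw [List.getD_eq_default _ _ (by simp; omega)]
    norm_num

theorem inv_code : ∀ n < 16, n ≠ 0 → ∃ l < 16, mulC n l = 1 := by decide +kernel

section Field

variable {F : Type*} [Field F] {ω : F}

theorem psi_zero : psi ω 0 = 0 := by simp [psi, bitF]

theorem psi_one : psi ω 1 = 1 := by simp +decide [psi, bitF]

/-- The matrices of a pair. -/
noncomputable def toPair (ω : F) (x : List ℕ × List ℕ) : Matrix (Fin 3) (Fin 3) F × Matrix (Fin 12) (Fin 12) (ZMod 5) :=
  (toMat3 ω x.1, toMat x.2)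

theorem toPair_oneP : toPair ω oneP = 1 := by
  refine Prod.ext ?_ toMat_oneN
  ext i j
  fin_cases i <;> fin_cases j <;> simp [toPair, toMat3, oneP, psi_zero, psi_one]

variable (h2 : (2 : F) = 0) (hω : ω ^ 4 + ω + 1 = 0)
include h2 hω

theorem toPair_mulP {x y : List ℕ × List ℕ} (hx : ValidP x) (hy : ValidP y) :
    toPair ω (mulP x y) = toPair ω x * toPair ω y :=
  Prod.ext (toMat3_mul3 h2 hω hx.1 hy.1) (toMat_mulN hx.2 hy.2)

theorem psi_ne_zero {n : ℕ} (hn : n < 16) (h0 : n ≠ 0) : psi ω n ≠ 0 := fun h => by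
  obtain ⟨l, hl, e⟩ := inv_code n hn h0
  have e' := psi_mulC h2 hω hn hl
  rw [e, h, psi_one, zero_mul] at e'
  exact one_ne_zero e'

theorem psi_inj {n m : ℕ} (hn : n < 16) (hm : m < 16) (h : psi ω n = psi ω m) : n = m := by
  by_contra hne
  refine psi_ne_zero h2 hω (Nat.xor_lt_two_pow (n := 4) hn hm) (fun e => hne (Nat.xor_eq_zero_iff.mp e)) ?_
  rw [psi_xor h2, h, ← two_mul, h2, zero_mul]

theorem exists_gen [Fintype F] (hF : Fintype.card F = 16) {g : List ℕ × List ℕ} {gi : List ℕ}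
    (h : genCheck g gi = true) : ∃ (a : Cfsg.SU 3 F 4) (b : GL (Fin 12) (ZMod 5)),
      (((a : Matrix.SpecialLinearGroup (Fin 3) F) : Matrix (Fin 3) (Fin 3) F), (b : Matrix (Fin 12) (Fin 12) (ZMod 5))) =
        toPair ω g := by
  simp only [genCheck, Bool.and_eq_true] at h
  obtain ⟨⟨⟨⟨⟨hok, hoki⟩, hu⟩, hd⟩, hr⟩, hl⟩ := h
  obtain ⟨hg1, hg2⟩ := validP_of_ok hok
  have hvt : Valid3 (trC g.1) := valid3_map_range fun t => hg1 _
  have hvc : Valid3 (conjC g.1) := valid3_map_range fun t => mulC_lt _ _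
  have hMM : toMat3 ω (trC g.1) * toMat3 ω (conjC g.1) = 1 := by
    rw [← toMat3_mul3 h2 hω hvt hvc, eqL_spec hu]
    exact congrArg Prod.fst (toPair_oneP (ω := ω))
  have ht : ∀ i k : Fin 3, toMat3 ω (trC g.1) i k = toMat3 ω g.1 k i := fun i k => by
    simp only [toMat3, trC]
    rw [getD_map_range _ (by omega)]
    congr 2
    omega
  have hc : ∀ k j : Fin 3, toMat3 ω (conjC g.1) k j = toMat3 ω g.1 k j ^ 4 := fun k j => by
    simp only [toMat3, conjC]
    rw [getD_map_range _ (by omega), psi_mulC h2 hω (mulC_lt _ _) (mulC_lt _ _), psi_mulC h2 hω (hg1 _) (hg1 _)]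
    ring
  have hun : Unitary.IsUnitary 4 (toMat3 ω g.1) := by
    rw [Unitary.isUnitary_iff_orthonormal (by rw [hF]; norm_num)]
    have key : ∀ i j : Fin 3, Cfsg.hermForm 3 F 4 ((toMat3 ω g.1).transpose i) ((toMat3 ω g.1).transpose j) =
        (1 : Matrix (Fin 3) (Fin 3) F) i j := fun i j => by
      rw [← hMM, Matrix.mul_apply]
      simp only [Cfsg.hermForm, Matrix.transpose_apply, ht, hc]
    exact ⟨fun i => (key i i).trans (Matrix.one_apply_eq i), fun i j hij => (key i j).trans (Matrix.one_apply_ne hij)⟩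
  have hdet : (toMat3 ω g.1).det = 1 := by
    have e := congrArg (psi ω) (Nat.eq_of_beq_eq_true hd)
    simp only [detC, show ∀ x y, Nat.xor x y = x ^^^ y from fun _ _ => rfl, psi_xor h2,
      psi_mulC h2 hω (mulC_lt _ _) (hg1 _), psi_mulC h2 hω (hg1 _) (hg1 _), psi_one] at e
    rw [Matrix.det_fin_three, ← e]
    simp only [toMat3, Fin.isValue, Fin.val_zero, Fin.val_one, Fin.val_two]
    norm_num [-List.getD_eq_getElem?_getD]
    linear_combination -(psi ω (g.1.getD 2 0) * psi ω (g.1.getD 4 0) * psi ω (g.1.getD 6 0) +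
      psi ω (g.1.getD 1 0) * psi ω (g.1.getD 3 0) * psi ω (g.1.getD 8 0) +
      psi ω (g.1.getD 0 0) * psi ω (g.1.getD 5 0) * psi ω (g.1.getD 7 0)) * h2
  have hgi : Valid gi := valid_of_ok hoki
  exact ⟨Unitary.suOfUnitary _ hun hdet,
    ⟨toMat g.2, toMat gi, by rw [← toMat_mulN hg2 hgi, eqL_spec hr, toMat_oneN],
      by rw [← toMat_mulN hgi hg2, eqL_spec hl, toMat_oneN]⟩, rfl⟩

end Field

theorem valid_hm {k : ℕ} (hk : k < 960) : ValidP (hm k) := by
  have h := data_ok
  simp only [dataCheck, Bool.and_eq_true] at h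
  exact validP_of_ok (allUpTo_spec h.1.1.2 k hk)

theorem trans_lt {i : ℕ} (hi : i < 65) : transU.getD i 0 < 960 := by
  have h := data_ok
  simp only [dataCheck, Bool.and_eq_true] at h
  exact Nat.le_of_ble_eq_true (allUpTo_spec h.1.2 i hi)

theorem hm_zero : hm 0 = oneP := by
  have h := data_ok
  simp only [dataCheck, Bool.and_eq_true] at h
  exact eqP_spec h.1.1.1.2

theorem tm_zero : tm 0 = oneP := by
  have h := data_ok
  simp only [dataCheck, Bool.and_eq_true] at h
  exact eqP_spec h.2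

theorem gens_ok : genCheck genA invRepA = true ∧ genCheck genB invRepB = true ∧ genCheck genW invRepW = true := by
  have h := data_ok
  simp only [dataCheck, Bool.and_eq_true] at h
  exact ⟨h.1.1.1.1.1.1, h.1.1.1.1.1.2, h.1.1.1.1.2⟩

theorem valid_genA : ValidP genA := by
  have h := gens_ok.1
  simp only [genCheck, Bool.and_eq_true] at h
  exact validP_of_ok h.1.1.1.1.1

theorem valid_genB : ValidP genB := by
  have h := gens_ok.2.1
  simp only [genCheck, Bool.and_eq_true] at h
  exact validP_of_ok h.1.1.1.1.1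

theorem valid_genW : ValidP genW := by
  have h := gens_ok.2.2
  simp only [genCheck, Bool.and_eq_true] at h
  exact validP_of_ok h.1.1.1.1.1

theorem valid_rm (d : ℕ) : ValidP (rm d) := by
  unfold rm
  cases Nat.beq d 0
  · exact valid_genW
  · exact validP_oneP

theorem valid_tm {i : ℕ} (hi : i < 65) : ValidP (tm i) := validP_mulP (valid_hm (trans_lt hi)) (valid_rm _)

/-- Codes of subgroup elements are distinct. -/
theorem code_inj {k l : ℕ} (hk : k < 960) (hl : l < 960) (h : codeOf (hm k).1 = codeOf (hm l).1) : k = l := by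
  have hs := sort_ok
  simp only [sortCheck, Bool.and_eq_true] at hs
  obtain ⟨h1, h2⟩ := hs
  have step : ∀ r < 959, codeOf (hm (sortPerm.getD r 0)).1 < codeOf (hm (sortPerm.getD (r + 1) 0)).1 :=
    fun r hr => Nat.le_of_ble_eq_true (allUpTo_spec h1 r hr)
  have mono : ∀ s < 960, ∀ r < s, codeOf (hm (sortPerm.getD r 0)).1 < codeOf (hm (sortPerm.getD s 0)).1 := by
    intro s
    induction s with
    | zero => intro _ r hr; omega
    | succ s ih =>
      intro hs r hr
      rcases Nat.lt_succ_iff_lt_or_eq.mp hr with h' | rfl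
      · exact (ih (by omega) r h').trans (step s (by omega))
      · exact step r (by omega)
  have e1 := allUpTo_spec h2 k hk
  have e2 := allUpTo_spec h2 l hl
  simp only [rankCheck, Bool.and_eq_true] at e1 e2
  have ek := Nat.eq_of_beq_eq_true e1.1.2
  have el := Nat.eq_of_beq_eq_true e2.1.2
  rcases lt_trichotomy (sortRank.getD k 0) (sortRank.getD l 0) with hlt | heq | hgt
  · have := mono _ (Nat.le_of_ble_eq_true e2.1.1) _ hlt
    rw [ek, el, h] at this
    exact absurd this (lt_irrefl _)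
  · rw [← ek, heq, el]
  · have := mono _ (Nat.le_of_ble_eq_true e1.1.1) _ hgt
    rw [ek, el, h] at this
    exact absurd this (lt_irrefl _)

theorem length_hm {k : ℕ} (hk : k < 960) : (hm k).1.length = 9 := by
  have hs := sort_ok
  simp only [sortCheck, Bool.and_eq_true] at hs
  have e := allUpTo_spec hs.2 k hk
  simp only [rankCheck, Bool.and_eq_true] at e
  exact Nat.eq_of_beq_eq_true e.2

section Subgroup

variable {F : Type*} [Field F] {ω : F} (h2 : (2 : F) = 0) (hω : ω ^ 4 + ω + 1 = 0)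

theorem hm_mul (h2 : (2 : F) = 0) (hω : ω ^ 4 + ω + 1 = 0) :
    ∀ k < 960, ∀ l < 960, ∃ n < 960, toPair ω (hm k) * toPair ω (hm l) = toPair ω (hm n) := by
  intro k
  induction k using Nat.strong_induction_on with
  | _ k ih =>
    intro hk l hl
    have hc := allUpTo_spec clos_ok k hk
    simp only [closCheck, Bool.and_eq_true, Bool.or_eq_true] at hc
    rcases hc.2 with h | ⟨hp, he⟩
    · refine ⟨l, hl, ?_⟩
      rw [Nat.eq_of_beq_eq_true h, hm_zero, toPair_oneP, one_mul]
    · have hpk : parents.getD k 0 / 2 < k := Nat.le_of_ble_eq_true hp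
      obtain ⟨n, hn, hn'⟩ := ih _ hpk (hpk.trans hk) l hl
      have hc' := allUpTo_spec clos_ok n hn
      simp only [closCheck, Bool.and_eq_true] at hc'
      obtain ⟨⟨⟨⟨hA, hB⟩, heA⟩, heB⟩, -⟩ := hc'
      rw [← eqP_spec he, show Nat.div (parents.getD k 0) 2 = parents.getD k 0 / 2 from rfl]
      cases Nat.beq (Nat.mod (parents.getD k 0) 2) 0
      · refine ⟨actB.getD n 0, Nat.le_of_ble_eq_true hB, ?_⟩
        rw [cond_false, toPair_mulP h2 hω valid_genB (valid_hm (hpk.trans hk)), mul_assoc, hn',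
          ← toPair_mulP h2 hω valid_genB (valid_hm hn), eqP_spec heB]
      · refine ⟨actA.getD n 0, Nat.le_of_ble_eq_true hA, ?_⟩
        rw [cond_true, toPair_mulP h2 hω valid_genA (valid_hm (hpk.trans hk)), mul_assoc, hn',
          ← toPair_mulP h2 hω valid_genA (valid_hm hn), eqP_spec heA]

include h2 hω

theorem hm_mem {S : Submonoid (Matrix (Fin 3) (Fin 3) F × Matrix (Fin 12) (Fin 12) (ZMod 5))}
    (hA : toPair ω genA ∈ S) (hB : toPair ω genB ∈ S) : ∀ k < 960, toPair ω (hm k) ∈ S := by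
  intro k
  induction k using Nat.strong_induction_on with
  | _ k ih =>
    intro hk
    have hc := allUpTo_spec clos_ok k hk
    simp only [closCheck, Bool.and_eq_true, Bool.or_eq_true] at hc
    rcases hc.2 with h | ⟨hp, he⟩
    · rw [Nat.eq_of_beq_eq_true h, hm_zero, toPair_oneP]
      exact one_mem S
    · have hpk : parents.getD k 0 / 2 < k := Nat.le_of_ble_eq_true hp
      rw [← eqP_spec he, show Nat.div (parents.getD k 0) 2 = parents.getD k 0 / 2 from rfl]
      cases Nat.beq (Nat.mod (parents.getD k 0) 2) 0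
      · rw [cond_false, toPair_mulP h2 hω valid_genB (valid_hm (hpk.trans hk))]
        exact mul_mem hB (ih _ hpk (hpk.trans hk))
      · rw [cond_true, toPair_mulP h2 hω valid_genA (valid_hm (hpk.trans hk))]
        exact mul_mem hA (ih _ hpk (hpk.trans hk))

theorem trans_step {g : List ℕ × List ℕ} (hg : ValidP g) {cj ck : List ℕ}
    (h : allUpTo (transCheck g cj ck) 65 = true) {i : ℕ} (hi : i < 65) :
    ∃ j < 65, ∃ k < 960, toPair ω g * toPair ω (tm i) = toPair ω (tm j) * toPair ω (hm k) := by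
  have hc := allUpTo_spec h i hi
  simp only [transCheck, Bool.and_eq_true, forceList_eq, Prod.mk.eta] at hc
  obtain ⟨⟨hj, hk⟩, he⟩ := hc
  refine ⟨_, Nat.le_of_ble_eq_true hj, _, Nat.le_of_ble_eq_true hk, ?_⟩
  rw [← toPair_mulP h2 hω hg (valid_tm hi), eqP_spec he,
    toPair_mulP h2 hω (valid_tm (Nat.le_of_ble_eq_true hj)) (valid_hm (Nat.le_of_ble_eq_true hk))]

omit hω in
/-- The image of the base point. -/
theorem mulVec_base {A : List ℕ} (r : Fin 3) : ((toMat3 ω A).mulVec ![1, 1, 0]) r = psi ω (imC A r) := by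
  simp [Matrix.mulVec, dotProduct, Fin.sum_univ_three, toMat3, imC, psi_xor h2]

omit hω in
theorem base_fixed {k : ℕ} (hk : k < 960) :
    (toMat3 ω (hm k).1).mulVec ![1, 1, 0] = psi ω (imC (hm k).1 0) • ![1, 1, 0] := by
  have h := allUpTo_spec fix_ok k hk
  simp only [fixCheck, Bool.and_eq_true] at h
  funext r
  rw [mulVec_base h2]
  fin_cases r
  · simp
  · simp [← Nat.eq_of_beq_eq_true h.1]
  · simp [Nat.eq_of_beq_eq_true h.2, psi_zero]

omit h2 hω in
omit [Field F] in
theorem imC_lt {A : List ℕ} (hA : Valid3 A) (r : ℕ) : imC A r < 16 := Nat.xor_lt_two_pow (n := 4) (hA _) (hA _)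

theorem cross_false {i j : ℕ} (hi : i < 65) (hji : j < i) {a b : F} (ha : a ≠ 0)
    (h : a • (toMat3 ω (tm i).1).mulVec ![1, 1, 0] = b • (toMat3 ω (tm j).1).mulVec ![1, 1, 0]) : False := by
  have hc := allUpTo_spec cross_ok i hi
  simp only [crossCheck, forceList_eq] at hc
  have hc' := allUpTo_spec hc j hji
  have hm0 : ∀ r s : Fin 3, minorC (tm i).1 (tm j).1 r s = 0 := fun r s => by
    have hx : ∀ r' : ℕ, imC (tm i).1 r' < 16 := imC_lt (valid_tm hi).1
    have hy : ∀ r' : ℕ, imC (tm j).1 r' < 16 := imC_lt (valid_tm (hji.trans hi)).1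
    refine psi_inj h2 hω (Nat.xor_lt_two_pow (n := 4) (mulC_lt _ _) (mulC_lt _ _)) (by norm_num) ?_
    have er := congrFun h r
    have es := congrFun h s
    simp only [Pi.smul_apply, smul_eq_mul, mulVec_base h2] at er es
    rw [minorC, show ∀ x y, Nat.xor x y = x ^^^ y from fun _ _ => rfl, psi_xor h2,
      psi_mulC h2 hω (hx _) (hy _), psi_mulC h2 hω (hx _) (hy _), psi_zero]
    refine (mul_eq_zero.mp (?_ : a * _ = 0)).resolve_left ha
    linear_combination psi ω (imC (tm j).1 s) * er - psi ω (imC (tm j).1 r) * es +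
      (a * psi ω (imC (tm i).1 s) * psi ω (imC (tm j).1 r)) * h2
  have e1 : minorC (tm i).1 (tm j).1 0 1 = 0 := hm0 0 1
  have e2 : minorC (tm i).1 (tm j).1 0 2 = 0 := hm0 0 2
  have e3 : minorC (tm i).1 (tm j).1 1 2 = 0 := hm0 1 2
  simp [e1, e2, e3] at hc'

theorem trans_inj (hT : ∀ i < 65, IsUnit (toMat3 ω (tm i).1)) (hU : ∀ k < 960, IsUnit (toMat3 ω (hm k).1))
    {i j k l : ℕ} (hi : i < 65) (hj : j < 65) (hk : k < 960) (hl : l < 960)
    (h : toMat3 ω (tm i).1 * toMat3 ω (hm k).1 = toMat3 ω (tm j).1 * toMat3 ω (hm l).1) : i = j ∧ k = l := by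
  have hne : ∀ n < 960, psi ω (imC (hm n).1 0) ≠ 0 := fun n hn e => by
    have hz := base_fixed (ω := ω) h2 hn
    rw [e, zero_smul] at hz
    have := congrFun (Matrix.mulVec_injective_of_isUnit (hU n hn) (hz.trans (Matrix.mulVec_zero _).symm)) 0
    exact one_ne_zero (α := F) this
  have hP := congrArg (fun M : Matrix (Fin 3) (Fin 3) F => M.mulVec ![1, 1, 0]) h
  simp only [← Matrix.mulVec_mulVec, base_fixed h2 hk, base_fixed h2 hl, Matrix.mulVec_smul] at hP
  rcases lt_trichotomy i j with hlt | rfl | hgt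
  · exact (cross_false h2 hω hj hlt (hne l hl) hP.symm).elim
  · refine ⟨rfl, code_inj hk hl (congrArg codeOf ?_)⟩
    have e : toMat3 ω (hm k).1 = toMat3 ω (hm l).1 := (hT i hi).mul_left_cancel h
    refine List.ext_getElem ((length_hm hk).trans (length_hm hl).symm) fun t ht ht' => ?_
    rw [← List.getD_eq_getElem _ 0 ht, ← List.getD_eq_getElem _ 0 ht']
    have ht9 : t < 9 := length_hm hk ▸ ht
    refine psi_inj h2 hω ((valid_hm hk).1 _) ((valid_hm hl).1 _) ?_
    have et := congrFun (congrFun e ⟨t / 3, by omega⟩) ⟨t % 3, by omega⟩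
    simpa only [toMat3, Nat.div_add_mod] using et
  · exact (cross_false h2 hω hi hgt (hne k hk) hP).elim

end Subgroup

section Rep

variable {F : Type*} [Field F] [Fintype F] (hF : Fintype.card F = 16)
include hF

theorem card_su : Nat.card (Cfsg.SU 3 F 4) = 62400 := by
  have h := Unitary.card_SU (show Fintype.card F = 4 ^ 2 by rw [hF]; norm_num) 3 (by norm_num)
  have e1 : ¬ Even 1 := by decide
  simp [Finset.prod_range_succ, e1] at h
  omega

theorem center_eq_bot : Subgroup.center (Cfsg.SU 3 F 4) = ⊥ :=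
  Subgroup.eq_bot_of_card_eq _
    ((Unitary.card_center_SU (show Fintype.card F = 4 ^ 2 by rw [hF]; norm_num) (by norm_num)).trans (by norm_num))

/-- The certificate gives a homomorphism. -/
theorem exists_rep : ∃ (ω : F) (ρ : Cfsg.SU 3 F 4 →* GL (Fin 12) (ZMod 5)), (2 : F) = 0 ∧ ω ^ 4 + ω + 1 = 0 ∧
    ∀ x ∈ [mulP genW (hm 2), hm 8, hm 1], ∃ a : Cfsg.SU 3 F 4,
      ((a : Matrix.SpecialLinearGroup (Fin 3) F) : Matrix (Fin 3) (Fin 3) F) = toMat3 ω x.1 ∧
      (ρ a : Matrix (Fin 12) (Fin 12) (ZMod 5)) = toMat x.2 := by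
  obtain ⟨h2, ω, hω⟩ := exists_root hF
  obtain ⟨gA, gB, gW⟩ := gens_ok
  obtain ⟨a₁, b₁, eA⟩ := exists_gen h2 hω hF gA
  obtain ⟨a₂, b₂, eB⟩ := exists_gen h2 hω hF gB
  obtain ⟨a₃, b₃, eW⟩ := exists_gen h2 hω hF gW
  let c : Cfsg.SU 3 F 4 × GL (Fin 12) (ZMod 5) →* Matrix (Fin 3) (Fin 3) F × Matrix (Fin 12) (Fin 12) (ZMod 5) :=
    MonoidHom.prodMap ((Cfsg.slToMat 3 F).comp (Cfsg.SU 3 F 4).subtype) (Units.coeHom _)
  have hc : Function.Injective c := fun x y h =>
    Prod.ext (Subtype.ext (Subtype.ext (congrArg Prod.fst h))) (Units.ext (congrArg Prod.snd h))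
  let D := Subgroup.closure ({(a₁, b₁), (a₂, b₂), (a₃, b₃)} : Set (Cfsg.SU 3 F 4 × GL (Fin 12) (ZMod 5)))
  let S := D.toSubmonoid.map c
  have hA : toPair ω genA ∈ S := ⟨_, Subgroup.subset_closure (Or.inl rfl), eA⟩
  have hB : toPair ω genB ∈ S := ⟨_, Subgroup.subset_closure (Or.inr (Or.inl rfl)), eB⟩
  have hW : toPair ω genW ∈ S := ⟨_, Subgroup.subset_closure (Or.inr (Or.inr rfl)), eW⟩
  have hH : ∀ k < 960, toPair ω (hm k) ∈ S := hm_mem h2 hω hA hB
  have hT : ∀ i < 65, toPair ω (tm i) ∈ S := fun i hi => by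
    rw [tm, toPair_mulP h2 hω (valid_hm (trans_lt hi)) (valid_rm _)]
    refine mul_mem (hH _ (trans_lt hi)) ?_
    unfold rm
    cases Nat.beq (bif Nat.beq i 0 then 0 else 1) 0
    · exact hW
    · rw [cond_true, toPair_oneP]
      exact one_mem S
  have hunit : ∀ x, toPair ω x ∈ S → IsUnit (toMat3 ω x.1) := fun x ⟨y, _, e⟩ => by
    have h := ((Group.isUnit y).map c).map (MonoidHom.fst _ _)
    rw [e] at h
    exact h
  have hfac : ∀ g ∈ D, ∃ i < 65, ∃ k < 960, c g = toPair ω (tm i) * toPair ω (hm k) := by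
    intro g hg
    have hgen : D.toSubmonoid = Submonoid.closure ({(a₁, b₁), (a₂, b₂), (a₃, b₃)} : Set _) :=
      Subgroup.closure_toSubmonoid_of_finite
    rw [← Subgroup.mem_toSubmonoid, hgen] at hg
    induction hg using Submonoid.closure_induction_left with
    | one => exact ⟨0, by norm_num, 0, by norm_num, by rw [map_one, tm_zero, hm_zero, toPair_oneP, one_mul]⟩
    | mul_left s hs y hy ih =>
      obtain ⟨i, hi, k, hk, e⟩ := ih
      obtain ⟨j, hj, l, hl, e'⟩ : ∃ j < 65, ∃ l < 960, c s * toPair ω (tm i) = toPair ω (tm j) * toPair ω (hm l) := by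
        rcases hs with rfl | rfl | rfl
        · rw [show c (a₁, b₁) = _ from eA]; exact trans_step h2 hω valid_genA trans_okA hi
        · rw [show c (a₂, b₂) = _ from eB]; exact trans_step h2 hω valid_genB trans_okB hi
        · rw [show c (a₃, b₃) = _ from eW]; exact trans_step h2 hω valid_genW trans_okW hi
      obtain ⟨n, hn, e''⟩ := hm_mul h2 hω l hl k hk
      exact ⟨j, hj, n, hn, by rw [map_mul, e, ← mul_assoc, e', mul_assoc, e'']⟩
  have hle : Nat.card D ≤ 62400 := by
    choose fi hi fk hk e using fun g : D => hfac g.1 g.2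
    have hf : Function.Injective fun g : D => ((⟨fi g, hi g⟩, ⟨fk g, hk g⟩) : Fin 65 × Fin 960) := fun g g' h => by
      simp only [Prod.mk.injEq, Fin.mk.injEq] at h
      exact Subtype.ext (hc (by rw [e g, e g', h.1, h.2]))
    simpa using Nat.card_le_card_of_injective _ hf
  let f : D →* Cfsg.SU 3 F 4 := (MonoidHom.fst _ _).comp D.subtype
  have hex : ∀ p : Fin 65 × Fin 960, ∃ g : D, c g = toPair ω (tm p.1) * toPair ω (hm p.2) := fun p => by
    obtain ⟨g, hg, e⟩ := mul_mem (hT p.1 p.1.2) (hH p.2 p.2.2)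
    exact ⟨⟨g, hg⟩, e⟩
  choose el hel using hex
  have hinj : Function.Injective fun p => f (el p) := fun p p' h => by
    have h' : (c (el p)).1 = (c (el p')).1 := congrArg ((Cfsg.slToMat 3 F).comp (Cfsg.SU 3 F 4).subtype) h
    rw [hel, hel] at h'
    obtain ⟨e1, e2⟩ := trans_inj h2 hω (fun i hi => hunit _ (hT i hi)) (fun k hk => hunit _ (hH k hk))
      p.1.2 p'.1.2 p.2.2 p'.2.2 h'
    exact Prod.ext (Fin.ext e1) (Fin.ext e2)
  have hsurj : Function.Surjective f := by
    have hcard : Nat.card (Fin 65 × Fin 960) = Nat.card (Cfsg.SU 3 F 4) := by rw [card_su hF]; simp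
    exact fun a => by
      obtain ⟨p, hp⟩ := ((Nat.bijective_iff_injective_and_card _).mpr ⟨hinj, hcard⟩).2 a
      exact ⟨el p, hp⟩
  have hbij : Function.Bijective f := (Nat.bijective_iff_surjective_and_card f).mpr
    ⟨hsurj, le_antisymm (hle.trans (card_su hF).ge) (Nat.card_le_card_of_surjective f hsurj)⟩
  refine ⟨ω, ((MonoidHom.snd _ _).comp D.subtype).comp (MulEquiv.ofBijective f hbij).symm.toMonoidHom, h2, hω,
    fun x hx => ?_⟩
  have hxS : toPair ω x ∈ S := by
    simp only [List.mem_cons, List.not_mem_nil, or_false] at hx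
    rcases hx with rfl | rfl | rfl
    · rw [toPair_mulP h2 hω valid_genW (valid_hm (by norm_num))]
      exact mul_mem hW (hH _ (by norm_num))
    · exact hH _ (by norm_num)
    · exact hH _ (by norm_num)
  obtain ⟨g, hg, e⟩ := hxS
  refine ⟨g.1, congrArg Prod.fst e, ?_⟩
  have : (MulEquiv.ofBijective f hbij).symm g.1 = ⟨g, hg⟩ := (MulEquiv.ofBijective f hbij).symm_apply_eq.mpr rfl
  show Units.val (((MulEquiv.ofBijective f hbij).symm g.1 : D) : Cfsg.SU 3 F 4 × GL (Fin 12) (ZMod 5)).2 = _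
  rw [this]
  exact congrArg Prod.snd e

end Rep

end Cfsg.Agent.UThreeFour
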