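/-
Elements of order 10, 13 and 15 in `SU₃(4)`, and large groups with its prime graph.
Main results (namespace `Cfsg.Agent.UThreeFour`): `exists_large`.
-/
import Cfsg.Agent.Lib.UThreeFour.Rep
import Cfsg.Agent.Lib.PrimeGraph.ModuleExtension

set_option autoImplicit false
set_option maxRecDepth 100000

namespace Cfsg.Agent.UThreeFour

open Cfsg.Agent.Janko (eqL eqL_spec forceList_eq)

theorem powN_spec {b : List ℕ} (hb : Valid b) : ∀ n, Valid (powN b n) ∧ toMat (powN b n) = toMat b ^ n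
  | 0 => ⟨valid_oneN, by rw [pow_zero]; exact toMat_oneN⟩
  | n + 1 => by
    obtain ⟨hv, he⟩ := powN_spec hb n
    have e : powN b (n + 1) = mulN b (powN b n) := forceList_eq (powN b n) fun S => mulN b S
    exact ⟨e ▸ valid_mulN hb hv, by rw [e, toMat_mulN hb hv, he, pow_succ']⟩

theorem powSum_spec {b : List ℕ} (hb : Valid b) :
    ∀ n, Valid (powSum b n) ∧ toMat (powSum b n) = ∑ i ∈ Finset.range (n + 1), toMat b ^ i
  | 0 => ⟨valid_oneN, by rw [Finset.sum_range_one, pow_zero]; exact toMat_oneN⟩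
  | n + 1 => by
    obtain ⟨hv, he⟩ := powSum_spec hb n
    have e : powSum b (n + 1) = addOne (mulN b (powSum b n)) :=
      forceList_eq (powSum b n) fun S => addOne (mulN b S)
    obtain ⟨hv', he'⟩ := toMat_addOne (valid_mulN hb hv)
    refine ⟨e ▸ hv', ?_⟩
    rw [e, he', toMat_mulN hb hv, he, Finset.sum_range_succ' _ (n + 1), Finset.mul_sum, pow_zero]
    simp only [pow_succ']

theorem toMat_zeroN : toMat zeroN = 0 := by decide +kernel

theorem thirteen_ne : ((12 + 1 : ℕ) : ZMod 5) ≠ 0 := by decide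

section Powers

variable {F : Type*} [Field F] {ω : F} (h2 : (2 : F) = 0) (hω : ω ^ 4 + ω + 1 = 0) {a : List ℕ} (ha : Valid3 a)
include h2 hω ha

theorem pow_of_ok {m : ℕ} (hm : m = 10 ∨ m = 13 ∨ m = 15) (h : powOK3 a m = true) : toMat3 ω a ^ m = 1 := by
  simp only [powOK3, forceList_eq] at h
  have v := fun x y => valid3_mul3 x y
  have one : toMat3 ω oneP.1 = 1 := congrArg Prod.fst (toPair_oneP (ω := ω))
  have mul : ∀ {A B}, Valid3 A → Valid3 B → toMat3 ω (mul3 A B) = toMat3 ω A * toMat3 ω B := toMat3_mul3 h2 hω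
  rcases hm with rfl | rfl | rfl <;>
    simp only [show Nat.beq 10 10 = true from rfl, show Nat.beq 13 10 = false from rfl, show Nat.beq 13 13 = true from rfl,
      show Nat.beq 15 10 = false from rfl, show Nat.beq 15 13 = false from rfl, show Nat.beq 15 15 = true from rfl,
      cond_true, cond_false] at h
  · have e := congrArg (toMat3 ω) (eqL_spec h)
    rw [one, mul (v _ _) (v _ _), mul (v _ _) ha, mul (v _ _) (v _ _), mul ha ha] at e
    rw [← e]
    simp only [pow_succ, pow_zero, one_mul, mul_assoc]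
  · have e := congrArg (toMat3 ω) (eqL_spec h)
    rw [one, mul (v _ _) (v _ _), mul (v _ _) (v _ _), mul (v _ _) ha, mul (v _ _) ha, mul (v _ _) (v _ _),
      mul ha ha] at e
    rw [← e]
    simp only [pow_succ, pow_zero, one_mul, mul_assoc]
  · have e := congrArg (toMat3 ω) (eqL_spec h)
    rw [one, mul (v _ _) (v _ _), mul (v _ _) (v _ _), mul (v _ _) ha, mul (v _ _) (v _ _), mul ha ha] at e
    rw [← e]
    simp only [pow_succ, pow_zero, one_mul, mul_assoc]

end Powers

/-- Arbitrarily large groups with the prime graph of `SU₃(4)`. -/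
theorem exists_large {F : Type*} [Field F] [Fintype F] (hF : Fintype.card F = 16) (N : ℕ) :
    ∃ (H : Type) (_ : Group H) (_ : Fintype H), N < Fintype.card H ∧
      ((∀ r : ℕ, r.Prime → (r ∣ Nat.card (Cfsg.SU 3 F 4) ↔ r ∣ Nat.card H)) ∧
        (∀ r s : ℕ, r.Prime → s.Prime → r ≠ s →
          ((∃ x : Cfsg.SU 3 F 4, orderOf x = r * s) ↔ (∃ y : H, orderOf y = r * s)))) := by
  haveI : Fact (Nat.Prime 5) := ⟨by norm_num⟩
  haveI : Fact (Nat.Prime 13) := ⟨by norm_num⟩
  obtain ⟨ω, ρ, h2, hω, hwit⟩ := exists_rep hF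
  obtain ⟨a13, e13, r13⟩ := hwit (mulP genW (hm 2)) (by simp)
  obtain ⟨a10, e10, r10⟩ := hwit (hm 8) (by simp)
  obtain ⟨a15, e15, r15⟩ := hwit (hm 1) (by simp)
  have hw := witness_ok
  simp only [witnessCheck, Bool.and_eq_true] at hw
  obtain ⟨⟨⟨⟨⟨⟨⟨⟨⟨⟨hsum, hp13⟩, hp10⟩, hp15⟩, hn13⟩, hn10a⟩, hn10b⟩, hn10c⟩, hn15a⟩, hn15b⟩, hn15c⟩ := hw
  have v13 : ValidP (mulP genW (hm 2)) := validP_mulP valid_genW (valid_hm (by norm_num))
  have v10 : ValidP (hm 8) := valid_hm (by norm_num)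
  have v15 : ValidP (hm 1) := valid_hm (by norm_num)
  have hpow : ∀ {a : Cfsg.SU 3 F 4} {l : List ℕ} {m : ℕ}, Valid3 l →
      ((a : Matrix.SpecialLinearGroup (Fin 3) F) : Matrix (Fin 3) (Fin 3) F) = toMat3 ω l →
      (m = 10 ∨ m = 13 ∨ m = 15) → powOK3 l m = true → a ^ m = 1 := by
    intro a l m hl e hm' h
    refine Subtype.ext (Subtype.ext ?_)
    simpa [e] using pow_of_ok h2 hω hl hm' h
  have hne : ∀ {a : Cfsg.SU 3 F 4} {b : List ℕ} {n : ℕ}, Valid b →
      (ρ a : Matrix (Fin 12) (Fin 12) (ZMod 5)) = toMat b → (!eqL (powN b n) oneN) = true → ¬ orderOf a ∣ n := by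
    intro a b n hb e h hd
    refine ne_of_eqL h (toMat_inj (powN_spec hb n).1 valid_oneN ?_)
    rw [(powN_spec hb n).2, ← e, toMat_oneN, ← Units.val_pow_eq_pow_val, ← map_pow, orderOf_dvd_iff_pow_eq_one.mp hd,
      map_one, Units.val_one]
  have h13 : orderOf a13 = 13 := by
    refine orderOf_eq_prime (hpow v13.1 e13 (by simp) hp13) fun h => ne_of_eqL hn13 (toMat_inj v13.2 valid_oneN ?_)
    rw [toMat_oneN, ← Units.val_one, ← map_one ρ, ← h]
    exact r13.symm
  have h10 : orderOf a10 = 10 := by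
    have hd := orderOf_dvd_of_pow_eq_one (hpow v10.1 e10 (by simp) hp10)
    have := Nat.le_of_dvd (by norm_num) hd
    have n5 := hne v10.2 r10 (show (!eqL (powN (hm 8).2 5) oneN) = true from hn10a)
    have n2 := hne v10.2 r10 (show (!eqL (powN (hm 8).2 2) oneN) = true from hn10b)
    interval_cases orderOf a10 <;> omega
  have h15 : orderOf a15 = 15 := by
    have hd := orderOf_dvd_of_pow_eq_one (hpow v15.1 e15 (by simp) hp15)
    have := Nat.le_of_dvd (by norm_num) hd
    have n5 := hne v15.2 r15 (show (!eqL (powN (hm 1).2 5) oneN) = true from hn15a)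
    have n3 := hne v15.2 r15 (show (!eqL (powN (hm 1).2 3) oneN) = true from hn15b)
    interval_cases orderOf a15 <;> omega
  letI : DistribMulAction (Cfsg.SU 3 F 4) (Fin 12 → ZMod 5) :=
    { smul := fun g w => Matrix.mulVec (ρ g : Matrix (Fin 12) (Fin 12) (ZMod 5)) w
      one_smul := fun w => by
        show Matrix.mulVec (ρ 1 : Matrix (Fin 12) (Fin 12) (ZMod 5)) w = w
        rw [map_one, Units.val_one, Matrix.one_mulVec]
      mul_smul := fun g g' w => by
        show Matrix.mulVec (ρ (g * g') : Matrix (Fin 12) (Fin 12) (ZMod 5)) w =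
          Matrix.mulVec (ρ g : Matrix (Fin 12) (Fin 12) (ZMod 5)) (Matrix.mulVec (ρ g' : Matrix (Fin 12) (Fin 12) (ZMod 5)) w)
        rw [map_mul, Units.val_mul, Matrix.mulVec_mulVec]
      smul_zero := fun g => Matrix.mulVec_zero _
      smul_add := fun g w w' => Matrix.mulVec_add _ w w' }
  have hfree : ∀ w : Fin 12 → ZMod 5, a13 • w = w → w = 0 := by
    intro w hw'
    have hb : toMat (witnessB 13) = (ρ a13 : Matrix (Fin 12) (Fin 12) (ZMod 5)) := r13.symm
    have hs := (powSum_spec (b := witnessB 13) v13.2 12).2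
    rw [eqL_spec hsum, toMat_zeroN, hb] at hs
    have hfixp : ∀ i : ℕ, Matrix.mulVec ((ρ a13 : Matrix (Fin 12) (Fin 12) (ZMod 5)) ^ i) w = w := fun i => by
      induction i with
      | zero => rw [pow_zero, Matrix.one_mulVec]
      | succ i ih =>
        rw [pow_succ, ← Matrix.mulVec_mulVec]
        have e : Matrix.mulVec (ρ a13 : Matrix (Fin 12) (Fin 12) (ZMod 5)) w = w := hw'
        rw [e, ih]
    have h0 := congrArg (fun M : Matrix (Fin 12) (Fin 12) (ZMod 5) => M.mulVec w) hs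
    simp only [Matrix.zero_mulVec, Matrix.sum_mulVec, hfixp, Finset.sum_const, Finset.card_range] at h0
    funext i
    have hi := congrFun h0 i
    simp only [Pi.zero_apply, Pi.smul_apply, nsmul_eq_mul] at hi
    exact (mul_eq_zero.mp hi.symm).resolve_left thirteen_ne
  have hS13 : Nat.card (Subgroup.zpowers a13) = 13 ^ (Nat.card (Cfsg.SU 3 F 4)).factorization 13 := by
    rw [Nat.card_zpowers, h13, card_su hF, show 62400 = 13 ^ 1 * 4800 from by norm_num,
      Nat.factorization_mul (by norm_num) (by norm_num), Finsupp.add_apply,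
      Nat.Prime.factorization_pow (by norm_num), Finsupp.single_eq_same,
      Nat.factorization_eq_zero_of_not_dvd (show ¬ 13 ∣ 4800 by norm_num), Nat.add_zero, pow_one]
  refine Cfsg.Agent.PrimeGraph.exists_large_same_primeGraph (W := Fin 12 → ZMod 5) 5 (by norm_num)
    (by rw [card_su hF]; norm_num) (fun w => funext fun i => ?_) ?_ N
  · rw [Pi.smul_apply, nsmul_eq_mul, show ((5 : ℕ) : ZMod 5) = 0 from rfl, zero_mul, Pi.zero_apply]
  intro g hg hg5 hno w hw'
  have hdvd : orderOf g ∣ 2 ^ 6 * 3 * 5 ^ 2 * 13 := by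
    have := orderOf_dvd_natCard g
    rwa [card_su hF] at this
  rcases (Nat.Prime.dvd_mul hg).mp hdvd with h | h
  · exfalso
    rcases (Nat.Prime.dvd_mul hg).mp h with h | h
    · rcases (Nat.Prime.dvd_mul hg).mp h with h | h
      · exact hno ⟨a10, by rw [h10, (Nat.prime_dvd_prime_iff_eq hg Nat.prime_two).mp (hg.dvd_of_dvd_pow h)]⟩
      · exact hno ⟨a15, by rw [h15, (Nat.prime_dvd_prime_iff_eq hg Nat.prime_three).mp h]⟩
    · exact hg5 ((Nat.prime_dvd_prime_iff_eq hg (by norm_num)).mp (hg.dvd_of_dvd_pow h))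
  · have hgo : orderOf g = 13 := (Nat.prime_dvd_prime_iff_eq hg (by norm_num)).mp h
    let Q : Sylow 13 (Cfsg.SU 3 F 4) := Sylow.ofCard (Subgroup.zpowers a13) hS13
    obtain ⟨P, hP⟩ := (IsPGroup.of_card (n := 1) (by rw [Nat.card_zpowers, hgo, pow_one]) :
      IsPGroup 13 (Subgroup.zpowers g)).exists_le_sylow
    obtain ⟨c, hc⟩ := MulAction.exists_smul_eq (Cfsg.SU 3 F 4) Q P
    have hgP : g ∈ ((c • Q : Sylow 13 (Cfsg.SU 3 F 4)) : Subgroup (Cfsg.SU 3 F 4)) :=
      hc ▸ hP (Subgroup.mem_zpowers g)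
    rw [Sylow.coe_subgroup_smul, Subgroup.mem_pointwise_smul_iff_inv_smul_mem] at hgP
    have hx : c⁻¹ * g * c ∈ Subgroup.zpowers a13 := by
      simpa [Q, MulAut.smul_def, MulAut.conj_inv_apply] using hgP
    have hord : orderOf (c⁻¹ * g * c) = 13 := by
      have e := MulEquiv.orderOf_eq (MulAut.conj c⁻¹) g
      rw [MulAut.conj_apply, inv_inv] at e
      rw [e, hgo]
    have heq : Subgroup.zpowers (c⁻¹ * g * c) = Subgroup.zpowers a13 :=
      Subgroup.eq_of_le_of_card_ge ((Subgroup.zpowers_le).mpr hx)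
        (by rw [Nat.card_zpowers, Nat.card_zpowers, h13, hord])
    have hmem : a13 ∈ MulAction.stabilizer (Cfsg.SU 3 F 4) (c⁻¹ • w) := by
      refine (Subgroup.zpowers_le.mpr ?_ : Subgroup.zpowers (c⁻¹ * g * c) ≤ _) (heq ▸ Subgroup.mem_zpowers a13)
      show (c⁻¹ * g * c) • c⁻¹ • w = c⁻¹ • w
      rw [smul_smul, mul_inv_cancel_right, mul_smul, hw']
    have := hfree _ hmem
    rw [inv_smul_eq_iff, smul_zero] at this
    exact this

end Cfsg.Agent.UThreeFour
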