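/-
Fast kernel arithmetic of codes for `GF(16)` and of 12 × 12 matrices over `ZMod 5`: a matrix is a list of twelve rows, each packed in
lanes of 20 bits.
Main results (namespace `Cfsg.Agent.UThreeFour`): `mulN`, `toMat`, `toMat_mulN`, `psi_mulC`, `toMat3_mul3`, `exists_root`.
-/
import Cfsg.Agent.Lib.CosetEnum.Pack
import Cfsg.Agent.Lib.Janko.Mat
import Cfsg.Prelude.Def_Classical

set_option autoImplicit false

namespace Cfsg.Agent.UThreeFour

open Cfsg.Agent.CosetEnum
open Cfsg.Agent.Janko (forceList forceList_eq eqL eqL_spec)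

/-- `Σ_j a_j * B_j` for the lanes `a_j` of `a`. -/
noncomputable def dot (B : List ℕ) : ℕ → ℕ :=
  List.rec (motive := fun _ => ℕ → ℕ) (fun _ => 0)
    (fun b _ ih a => Nat.add (Nat.mul (Nat.land a 1048575) b) (ih (Nat.shiftRight a 20))) B

/-- Lanewise reduction modulo 5 of lanes at most 192. -/
noncomputable def red (X : ℕ) : ℕ :=
  Nat.sub X (Nat.mul 5 (Nat.land (Nat.shiftRight (Nat.mul X 3277) 14)
    0x3f0003f0003f0003f0003f0003f0003f0003f0003f0003f0003f0003f))

/-- One row of a product. -/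
noncomputable def vmul (a : ℕ) (B : List ℕ) : ℕ := force (dot B a) red

/-- Product of matrices. -/
noncomputable def mulN (A B : List ℕ) : List ℕ := A.map fun a => vmul a B

/-- The matrix of a packed list. -/
noncomputable def toMat (A : List ℕ) : Matrix (Fin 12) (Fin 12) (ZMod 5) :=
  fun i j => ((lane 20 (A.getD i 0) j : ℕ) : ZMod 5)

/-- Twelve rows with entries below 5. -/
def Valid (A : List ℕ) : Prop :=
  A.length = 12 ∧ ∀ r ∈ A, ∃ f : ℕ → ℕ, (∀ j, f j < 5) ∧ r = pack 20 12 f

/-- Test for `Valid`. -/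
noncomputable def okMat (A : List ℕ) : Bool :=
  Nat.beq A.length 12 && A.all fun r => Nat.ble (r + 1) (2 ^ 240) &&
    (List.range 12).all fun j => Nat.ble (lane 20 r j + 1) 5

theorem valid_of_ok {A : List ℕ} (h : okMat A = true) : Valid A := by
  simp only [okMat, Bool.and_eq_true, List.all_eq_true, Nat.ble_eq, List.mem_range] at h
  refine ⟨Nat.eq_of_beq_eq_true h.1, fun r hr => ⟨fun j => if j < 12 then lane 20 r j else 0, fun j => ?_, ?_⟩⟩
  · show (if j < 12 then lane 20 r j else 0) < 5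
    split
    · have := (h.2 r hr).2 j ‹_›
      omega
    · omega
  · rw [pack_congr (g := lane 20 r) fun i hi => if_pos hi, pack_lane (by norm_num)]
    have := (h.2 r hr).1
    norm_num at this ⊢
    omega

theorem dot_pack : ∀ {N : ℕ} (B : List ℕ) (g : ℕ → ℕ → ℕ) (a : ℕ), B.length = N →
    (∀ j < N, B.getD j 0 = pack 20 12 (g j)) →
    dot B a = pack 20 12 (fun k => ∑ j ∈ Finset.range N, lane 20 a j * g j k)
  | 0, [], _, _, _, _ => by simp [dot, pack_zero]
  | N + 1, b :: t, g, a, hl, hg => by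
    show (a &&& 1048575) * b + dot t (a >>> 20) = _
    rw [dot_pack t (fun j => g (j + 1)) (a >>> 20) (by simpa using hl) fun j hj => by
      simpa using hg (j + 1) (by omega)]
    have hb : b = pack 20 12 (g 0) := by simpa using hg 0 (by omega)
    rw [hb, Nat.mul_comm, pack_mul, pack_add]
    refine pack_congr fun k _ => ?_
    rw [Finset.sum_range_succ', Nat.add_comm]
    congr 1
    · refine Finset.sum_congr rfl fun j _ => ?_
      congr 1
      rw [lane_def, lane_def, ← Nat.shiftRight_add]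
      congr 2
      ring
    · rw [lane_def, Nat.zero_mul, Nat.shiftRight_zero, Nat.mul_comm]
      norm_num

theorem barrett : ∀ x < 193, x * 3277 / 2 ^ 14 = x / 5 := by
  intro x hx
  norm_num
  omega

theorem red_pack {f : ℕ → ℕ} (hf : ∀ j < 12, f j < 193) : red (pack 20 12 f) = pack 20 12 (fun j => f j % 5) := by
  show pack 20 12 f - 5 * (((pack 20 12 f * 3277) >>> 14) &&& 0x3f0003f0003f0003f0003f0003f0003f0003f0003f0003f0003f0003f) = _
  have hm : (0x3f0003f0003f0003f0003f0003f0003f0003f0003f0003f0003f0003f : ℕ) = pack 20 12 (fun _ => 63) := by simp [pack]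
  have hb : ∀ i < 12, f i * 3277 < 2 ^ 20 := fun i hi => by have := hf i hi; norm_num; omega
  have h63 : ∀ i < 12, (fun _ : ℕ => 63) i < 2 ^ 20 := fun _ _ => by norm_num
  have hq : ((pack 20 12 f * 3277) >>> 14) &&& pack 20 12 (fun _ => 63) = pack 20 12 (fun j => f j / 5) := by
    rw [pack_mul]
    refine Nat.eq_of_testBit_eq fun k => ?_
    rw [Nat.testBit_land, Nat.testBit_shiftRight, testBit_pack (by norm_num) hb, testBit_pack (by norm_num) h63,
      testBit_pack (by norm_num) fun i hi => by have := hf i hi; norm_num; omega]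
    by_cases hk : k / 20 < 12
    · have hd : f (k / 20) * 3277 / 2 ^ 14 = f (k / 20) / 5 := barrett _ (hf _ hk)
      have hsmall : f (k / 20) / 5 < 2 ^ 6 := by have := hf _ hk; norm_num; omega
      rw [show (63 : ℕ) = 2 ^ 6 - 1 by norm_num, Nat.testBit_two_pow_sub_one]
      by_cases hk6 : k % 20 < 6
      · have h1 : (14 + k) / 20 = k / 20 := by omega
        have h2 : (14 + k) % 20 = 14 + k % 20 := by omega
        rw [h1, h2, ← hd, Nat.testBit_div_two_pow]
        simp [hk, hk6, Nat.add_comm]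
      · simp only [hk6, decide_false, Bool.and_false]
        rw [Nat.testBit_lt_two_pow (lt_of_lt_of_le hsmall (Nat.pow_le_pow_right (by norm_num) (by omega)))]
        simp
    · simp [hk]
  rw [hm, hq, Nat.mul_comm, pack_mul, pack_sub _ _ fun i hi => by omega]
  exact pack_congr fun i _ => by omega

theorem valid_getD {A : List ℕ} (hA : Valid A) :
    ∃ g : ℕ → ℕ → ℕ, (∀ i j, g i j < 5) ∧ ∀ i < 12, A.getD i 0 = pack 20 12 (g i) := by
  have h : ∀ i, ∃ f : ℕ → ℕ, (∀ j, f j < 5) ∧ (i < 12 → A.getD i 0 = pack 20 12 f) := fun i => by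
    by_cases hi : i < 12
    · have hl : i < A.length := hA.1.symm ▸ hi
      obtain ⟨f, hf, e⟩ := hA.2 _ (List.getElem_mem hl)
      exact ⟨f, hf, fun _ => by rw [List.getD_eq_getElem _ _ hl, e]⟩
    · exact ⟨fun _ => 0, fun _ => by norm_num, fun h => absurd h hi⟩
  choose g hg hg' using h
  exact ⟨g, hg, hg'⟩

theorem vmul_pack {a : ℕ} {f : ℕ → ℕ} (hf : ∀ j, f j < 5) (ha : a = pack 20 12 f) {B : List ℕ}
    {g : ℕ → ℕ → ℕ} (hgb : ∀ i j, g i j < 5) (hl : B.length = 12) (hg : ∀ i < 12, B.getD i 0 = pack 20 12 (g i)) :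
    vmul a B = pack 20 12 (fun k => (∑ j ∈ Finset.range 12, f j * g j k) % 5) := by
  rw [vmul, force_eq, dot_pack B g a hl hg]
  have he : ∀ k, ∑ j ∈ Finset.range 12, lane 20 a j * g j k = ∑ j ∈ Finset.range 12, f j * g j k := fun k =>
    Finset.sum_congr rfl fun j hj => by
      rw [ha, lane_pack (by norm_num) (fun i _ => lt_trans (hf i) (by norm_num)) (Finset.mem_range.mp hj)]
  simp only [he]
  refine red_pack fun k _ => ?_
  calc ∑ j ∈ Finset.range 12, f j * g j k ≤ ∑ _j ∈ Finset.range 12, 16 :=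
        Finset.sum_le_sum fun j _ => by have := hf j; have := hgb j k; nlinarith
    _ < 193 := by norm_num

theorem valid_mulN {A B : List ℕ} (hA : Valid A) (hB : Valid B) : Valid (mulN A B) := by
  obtain ⟨g, hgb, hg⟩ := valid_getD hB
  refine ⟨by rw [mulN, List.length_map, hA.1], fun r hr => ?_⟩
  obtain ⟨a, ha, rfl⟩ := List.mem_map.mp hr
  obtain ⟨f, hf, e⟩ := hA.2 a ha
  exact ⟨_, fun k => Nat.mod_lt _ (by norm_num), vmul_pack hf e hgb hB.1 hg⟩

theorem toMat_mulN {A B : List ℕ} (hA : Valid A) (hB : Valid B) : toMat (mulN A B) = toMat A * toMat B := by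
  obtain ⟨fA, hfb, hfA⟩ := valid_getD hA
  obtain ⟨g, hgb, hg⟩ := valid_getD hB
  ext i j
  have hl : (i : ℕ) < A.length := hA.1.symm ▸ i.2
  have hrow : (mulN A B).getD i 0 = vmul (A.getD i 0) B := by
    rw [mulN, List.getD_eq_getElem _ _ (by simpa using hl), List.getElem_map, List.getD_eq_getElem _ _ hl]
  have hlane : ∀ (r k : ℕ) (h : ℕ → ℕ), k < 12 → (∀ m, h m < 5) → r = pack 20 12 h → lane 20 r k = h k :=
    fun r k h hk hh e => by rw [e, lane_pack (by norm_num) (fun m _ => lt_trans (hh m) (by norm_num)) hk]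
  rw [Matrix.mul_apply]
  unfold toMat
  rw [hrow, hlane _ _ _ j.2 (fun _ => Nat.mod_lt _ (by norm_num)) (vmul_pack (hfb i) (hfA i i.2) hgb hB.1 hg),
    ZMod.natCast_mod, Nat.cast_sum, Finset.sum_range]
  refine Finset.sum_congr rfl fun k _ => ?_
  rw [Nat.cast_mul, hlane _ _ _ k.2 (hfb i) (hfA i i.2), hlane _ _ _ j.2 (hgb k) (hg k k.2)]

theorem toMat_mul3 {A B C : List ℕ} (hA : Valid A) (hB : Valid B) (hC : Valid C) :
    toMat (mulN (mulN A B) C) = toMat A * toMat B * toMat C := by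
  rw [toMat_mulN (valid_mulN hA hB) hC, toMat_mulN hA hB]

/-- The identity matrix. -/
noncomputable def oneN : List ℕ := (List.range 12).map fun i => Nat.shiftLeft 1 (Nat.mul 20 i)

theorem valid_oneN : Valid oneN := valid_of_ok (by decide +kernel)

theorem toMat_oneN : toMat oneN = 1 := by decide +kernel

/-- `1 + S` for a packed matrix `S`. -/
noncomputable def addOne (S : List ℕ) : List ℕ := List.zipWith (fun x e => force (Nat.add x e) red) S oneN

theorem toMat_addOne {S : List ℕ} (hS : Valid S) : Valid (addOne S) ∧ toMat (addOne S) = toMat S + 1 := by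
  obtain ⟨g, hgb, hg⟩ := valid_getD hS
  obtain ⟨o, hob, ho⟩ := valid_getD valid_oneN
  have hlen : (addOne S).length = 12 := by
    rw [addOne, List.length_zipWith, hS.1, valid_oneN.1, Nat.min_self]
  have hrow : ∀ i < 12, (addOne S).getD i 0 = pack 20 12 (fun k => (g i k + o i k) % 5) := fun i hi => by
    have h1 : i < S.length := hS.1.symm ▸ hi
    have h2 : i < oneN.length := valid_oneN.1.symm ▸ hi
    rw [List.getD_eq_getElem _ _ (hlen.symm ▸ hi)]
    simp only [addOne, List.getElem_zipWith, force_eq]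
    rw [← List.getD_eq_getElem _ 0 h1, ← List.getD_eq_getElem _ 0 h2, hg i hi, ho i hi,
      show ∀ x y : ℕ, Nat.add x y = x + y from fun _ _ => rfl, pack_add]
    exact red_pack fun k _ => by have := hgb i k; have := hob i k; omega
  refine ⟨⟨hlen, fun r hr => ?_⟩, ?_⟩
  · obtain ⟨i, hi, rfl⟩ := List.getElem_of_mem hr
    rw [← List.getD_eq_getElem _ 0 hi, hrow i (hlen ▸ hi)]
    exact ⟨_, fun k => Nat.mod_lt _ (by norm_num), rfl⟩
  · rw [← toMat_oneN]
    ext i j
    have hb : ∀ (r : ℕ) (h : ℕ → ℕ), (∀ m, h m < 5) → r = pack 20 12 h → lane 20 r j = h j :=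
      fun r h hh e => by rw [e, lane_pack (by norm_num) (fun m _ => lt_trans (hh m) (by norm_num)) j.2]
    rw [Matrix.add_apply]
    unfold toMat
    rw [hb _ _ (fun _ => Nat.mod_lt _ (by norm_num)) (hrow i i.2), hb _ _ (hgb i) (hg i i.2), hb _ _ (hob i) (ho i i.2),
      ZMod.natCast_mod, Nat.cast_add]

/-! ### Codes for the field with 16 elements -/

/-- The multiplication table of the codes. -/
noncomputable def mulC (n m : ℕ) : ℕ :=
  Nat.land (Nat.shiftRight
    0xa5783ce1b4692df05ba48679c23d1fe07ae36bf258c149d0843fd16a2e957bc0386d92c74f1ae5b0c6b1285f394ed7a0e7f6c5d4a3b28190192a7f4cd5e6b380bc5243ad618f9e70428ef93517dbac6063c914be8d27fa509d15ae26fb73c8402147ed8b9afc5630df9b5713eca86420fedcba98765432100000000000000000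
    (Nat.mul 4 (Nat.add (Nat.mul 16 n) m))) 15

theorem mulC_lt (n m : ℕ) : mulC n m < 16 := Nat.lt_succ_of_le Nat.and_le_right

/-- Multiplication by the root. -/
def shiftC (m : ℕ) : ℕ := if m < 8 then 2 * m else (2 * m) ^^^ 19

/-- Multiplication defined by shifts. -/
def mulS (n m : ℕ) : ℕ :=
  (((if n.testBit 0 then m else 0) ^^^ (if n.testBit 1 then shiftC m else 0)) ^^^
    (if n.testBit 2 then shiftC (shiftC m) else 0)) ^^^ (if n.testBit 3 then shiftC (shiftC (shiftC m)) else 0)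

theorem mulC_eq : ∀ n < 16, ∀ m < 16, mulC n m = mulS n m ∧ shiftC m < 16 := by decide +kernel

section Field

variable {F : Type*} [Field F]

/-- The coefficient of a bit. -/
def bitF (F : Type*) [Field F] (n i : ℕ) : F := if n.testBit i then 1 else 0

/-- The field element of a code. -/
def psi (ω : F) (n : ℕ) : F := bitF F n 0 + bitF F n 1 * ω + bitF F n 2 * ω ^ 2 + bitF F n 3 * ω ^ 3

variable {ω : F} (h2 : (2 : F) = 0) (hω : ω ^ 4 + ω + 1 = 0)
include h2

theorem bitF_xor (n m i : ℕ) : bitF F (n ^^^ m) i = bitF F n i + bitF F m i := by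
  simp only [bitF, Nat.testBit_xor]
  cases n.testBit i <;> cases m.testBit i <;> simp
  linear_combination -h2

theorem psi_xor (n m : ℕ) : psi ω (n ^^^ m) = psi ω n + psi ω m := by
  simp only [psi, bitF_xor h2]
  ring

include hω

theorem psi_shiftC : ∀ m < 16, psi ω (shiftC m) = ω * psi ω m := by
  intro m hm
  interval_cases m <;> simp +decide [psi, bitF, shiftC] <;>
    first
      | ring1
      | linear_combination -hω + (ω + 1) * h2
      | linear_combination -hω + h2
      | linear_combination -hω + ω * h2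
      | linear_combination -hω

theorem psi_ite (b : Bool) (x : ℕ) : psi ω (if b then x else 0) = (if b then 1 else 0) * psi ω x := by
  cases b <;> simp [psi, bitF]

theorem psi_mulC {n m : ℕ} (hn : n < 16) (hm : m < 16) : psi ω (mulC n m) = psi ω n * psi ω m := by
  have h1 := (mulC_eq n hn m hm).2
  have h1' := (mulC_eq n hn _ h1).2
  rw [(mulC_eq n hn m hm).1, mulS]
  simp only [psi_xor h2, psi_ite h2 hω, psi_shiftC h2 hω _ h1', psi_shiftC h2 hω _ h1, psi_shiftC h2 hω m hm]
  simp only [psi, bitF]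
  ring

end Field

theorem exists_root {F : Type*} [Field F] [Fintype F] (hF : Fintype.card F = 16) :
    (2 : F) = 0 ∧ ∃ ω : F, ω ^ 4 + ω + 1 = 0 := by
  classical
  have h2 : (2 : F) = 0 := by
    have h0 : ((2 : ℕ) : F) ^ 4 = 0 := by
      rw [← Nat.cast_pow, show (2 : ℕ) ^ 4 = 16 from rfl, ← hF]
      exact FiniteField.cast_card_eq_zero F
    exact_mod_cast eq_zero_of_pow_eq_zero h0
  refine ⟨h2, ?_⟩
  obtain ⟨u, hu⟩ := IsCyclic.exists_ofOrder_eq_natCard (α := Fˣ)
  rw [Nat.card_eq_fintype_card, Fintype.card_units, hF] at hu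
  have h15 : (u : F) ^ 15 = 1 := by rw [← Units.val_pow_eq_pow_val, show (15 : ℕ) = orderOf u by rw [hu], pow_orderOf_eq_one, Units.val_one]
  have h5 : (u : F) ^ 5 ≠ 1 := fun h => by
    have := orderOf_dvd_of_pow_eq_one (Units.ext (by simpa using h) : u ^ 5 = 1)
    rw [hu] at this
    norm_num at this
  have h3 : (u : F) ^ 2 + u + 1 ≠ 0 := fun h => by
    have := orderOf_dvd_of_pow_eq_one (Units.ext (by simpa using (by linear_combination ((u : F) - 1) * h : (u : F) ^ 3 = 1)) : u ^ 3 = 1)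
    rw [hu] at this
    norm_num at this
  have hprod : ((u : F) ^ 4 + u + 1) * ((u : F) ^ 4 + (u : F) ^ 3 + 1) * (((u : F) ^ 5 - 1) * ((u : F) ^ 2 + u + 1)) = 0 := by
    linear_combination h15 + ((-1) * (u : F) ^ 1 + (-1) * (u : F) ^ 2 + (-1) * (u : F) ^ 3 + (-2) * (u : F) ^ 4 + (-2) * (u : F) ^ 5 + (-1) * (u : F) ^ 6 + (1) * (u : F) ^ 9 + (2) * (u : F) ^ 10 + (2) * (u : F) ^ 11 + (1) * (u : F) ^ 12 + (1) * (u : F) ^ 13 + (1) * (u : F) ^ 14) * h2
  rcases mul_eq_zero.mp ((mul_eq_zero.mp hprod).resolve_right (mul_ne_zero (sub_ne_zero.mpr h5) h3)) with h | h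
  · exact ⟨u, h⟩
  · refine ⟨((u : F))⁻¹, ?_⟩
    have hu0 : (u : F) ≠ 0 := u.ne_zero
    field_simp
    linear_combination h

/-- Product of 3 × 3 matrices of codes, stored row by row. -/
noncomputable def mul3 (A B : List ℕ) : List ℕ :=
  (List.range 9).map fun t =>
    Nat.xor (Nat.xor (mulC (A.getD (3 * (t / 3)) 0) (B.getD (t % 3) 0))
      (mulC (A.getD (3 * (t / 3) + 1) 0) (B.getD (3 + t % 3) 0)))
      (mulC (A.getD (3 * (t / 3) + 2) 0) (B.getD (6 + t % 3) 0))

/-- All entries are codes. -/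
def Valid3 (A : List ℕ) : Prop := ∀ t, A.getD t 0 < 16

/-- The matrix of a list of codes. -/
def toMat3 {F : Type*} [Field F] (ω : F) (A : List ℕ) : Matrix (Fin 3) (Fin 3) F :=
  fun i j => psi ω (A.getD (3 * i + j) 0)

theorem valid3_of_ok {A : List ℕ} (h : A.all (fun c => Nat.blt c 16) = true) : Valid3 A := fun t => by
  by_cases ht : t < A.length
  · rw [List.getD_eq_getElem _ _ ht]
    exact Nat.le_of_ble_eq_true ((List.all_eq_true.mp h) _ (List.getElem_mem ht))
  · rw [List.getD_eq_default _ _ (by omega)]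
    norm_num

theorem getD_mul3 {A B : List ℕ} {t : ℕ} (ht : t < 9) : (mul3 A B).getD t 0 =
    (mulC (A.getD (3 * (t / 3)) 0) (B.getD (t % 3) 0) ^^^ mulC (A.getD (3 * (t / 3) + 1) 0) (B.getD (3 + t % 3) 0)) ^^^
      mulC (A.getD (3 * (t / 3) + 2) 0) (B.getD (6 + t % 3) 0) := by
  rw [mul3, List.getD_eq_getElem _ _ (by simpa using ht), List.getElem_map, List.getElem_range]
  rfl

theorem valid3_mul3 (A B : List ℕ) : Valid3 (mul3 A B) := fun t => by
  by_cases ht : t < 9
  · rw [getD_mul3 ht]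
    exact Nat.xor_lt_two_pow (n := 4) (Nat.xor_lt_two_pow (n := 4) (mulC_lt _ _) (mulC_lt _ _)) (mulC_lt _ _)
  · rw [List.getD_eq_default _ _ (by simp [mul3]; omega)]
    norm_num

theorem toMat3_mul3 {F : Type*} [Field F] {ω : F} (h2 : (2 : F) = 0) (hω : ω ^ 4 + ω + 1 = 0) {A B : List ℕ}
    (hA : Valid3 A) (hB : Valid3 B) : toMat3 ω (mul3 A B) = toMat3 ω A * toMat3 ω B := by
  ext i j
  have hd : (3 * (i : ℕ) + j) / 3 = i := by omega
  have hm : (3 * (i : ℕ) + j) % 3 = j := by omega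
  rw [Matrix.mul_apply, Fin.sum_univ_three]
  simp only [toMat3, getD_mul3 (show 3 * (i : ℕ) + j < 9 by omega), hd, hm, psi_xor h2,
    psi_mulC h2 hω (hA _) (hB _)]
  simp

end Cfsg.Agent.UThreeFour
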